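import Mathlib.LinearAlgebra.RootSystem.Base
import Mathlib.LinearAlgebra.RootSystem.WeylGroup
import Mathlib.LinearAlgebra.RootSystem.Finite.Lemmas

/-!
# Root pairings with a base: words in simple reflections, the exchange condition,
the Weyl group acts simply transitively on bases
-/

set_option autoImplicit false

open Set Function

namespace Groth.Agent.Lib.Helper2.BaseW

variable {ι R M N : Type*} [CommRing R] [AddCommGroup M] [Module R M] [AddCommGroup N]
  [Module R N]

section General

variable (P : RootPairing ι R M N)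

lemma root_smul (g : P.Aut) (i : ι) : P.root (g • i) = g • P.root i :=
  RootPairing.Equiv.root_indexEquiv_eq_smul (P := P) i g

lemma reflection_aut_smul (i k : ι) :
    (RootPairing.Equiv.reflection P i) • k = P.reflectionPerm i k := rfl

lemma root_neg (i : ι) : P.root (P.reflectionPerm i i) = -P.root i := by
  rw [P.root_reflectionPerm, P.reflection_apply_self]

lemma smul_neg_index (g : P.Aut) (i : ι) :
    g • (P.reflectionPerm i i) = P.reflectionPerm (g • i) (g • i) := by
  apply P.root.injective
  rw [root_smul, root_neg, root_neg, root_smul, smul_neg]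

lemma coroot'_aut_smul (u : P.Aut) (j : ι) (m : M) :
    P.coroot' j (u • m) = P.coroot' (u⁻¹ • j) m := by
  have h := RootPairing.Hom.weight_coweight_transpose_apply P P (P.coroot j) u.toHom
  have h2 := LinearMap.congr_fun h m
  have h3 := RootPairing.Hom.coroot_coweightMap_apply P P j u.toHom
  rw [h3] at h2
  exact h2

/-- The reflection in the image of a root under an automorphism is the conjugate reflection. -/
lemma reflection_smul_conj (g : P.Aut) (a : ι) :
    RootPairing.Equiv.reflection P (g • a) = g * RootPairing.Equiv.reflection P a * g⁻¹ := by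
  apply RootPairing.Equiv.weightHom_injective P
  ext x
  show RootPairing.Equiv.reflection P (g • a) • x =
    (g * RootPairing.Equiv.reflection P a * g⁻¹) • x
  have h1 := coroot'_aut_smul P g⁻¹ a x
  rw [inv_inv] at h1
  have h2 : g • (P.coroot' a (g⁻¹ • x) • P.root a) = P.coroot' a (g⁻¹ • x) • (g • P.root a) :=
    map_smul (RootPairing.Equiv.weightHom P g) _ _
  rw [mul_smul, mul_smul, RootPairing.Equiv.reflection_smul, RootPairing.Equiv.reflection_smul,
    P.reflection_apply, P.reflection_apply, smul_sub, smul_inv_smul, root_smul, h2, h1]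

/-- The product of the reflections along a list of roots. -/
noncomputable def rprod (l : List ι) : P.Aut :=
  (l.map fun a => RootPairing.Equiv.reflection P a).prod

@[simp] lemma rprod_nil : rprod P [] = 1 := by simp [rprod]

@[simp] lemma rprod_cons (a : ι) (l : List ι) :
    rprod P (a :: l) = RootPairing.Equiv.reflection P a * rprod P l := by simp [rprod]

@[simp] lemma rprod_append (l₁ l₂ : List ι) : rprod P (l₁ ++ l₂) = rprod P l₁ * rprod P l₂ := by
  simp [rprod]

lemma rprod_snoc (l : List ι) (a : ι) :
    rprod P (l ++ [a]) = rprod P l * RootPairing.Equiv.reflection P a := by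
  rw [rprod_append, rprod_cons, rprod_nil, mul_one]

lemma reflection_mul_self (a : ι) :
    RootPairing.Equiv.reflection P a * RootPairing.Equiv.reflection P a = 1 := by
  rw [mul_eq_one_iff_inv_eq, RootPairing.Equiv.reflection_inv]

lemma exists_word_of_mem_closure {Δ' : Set ι} {g : P.Aut}
    (hg : g ∈ Subgroup.closure ((fun i : ι => RootPairing.Equiv.reflection P i) '' Δ')) :
    ∃ l : List ι, (∀ a ∈ l, a ∈ Δ') ∧ rprod P l = g := by
  induction hg using Subgroup.closure_induction'' with
  | mem x hx =>
    obtain ⟨i, hi, rfl⟩ := hx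
    exact ⟨[i], by simpa using hi, by simp⟩
  | inv_mem x hx =>
    obtain ⟨i, hi, rfl⟩ := hx
    exact ⟨[i], by simpa using hi, by simp⟩
  | one => exact ⟨[], by simp, by simp⟩
  | mul x y _ _ hx hy =>
    obtain ⟨l₁, h₁, rfl⟩ := hx
    obtain ⟨l₂, h₂, rfl⟩ := hy
    refine ⟨l₁ ++ l₂, ?_, rprod_append P l₁ l₂⟩
    intro a ha
    rcases List.mem_append.mp ha with h | h
    · exact h₁ a h
    · exact h₂ a h

/-- A word of minimal length among the words with letters in `Δ'`. -/
def IsMinWord (Δ' : Set ι) (l : List ι) : Prop :=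
  (∀ a ∈ l, a ∈ Δ') ∧
    ∀ l' : List ι, (∀ a ∈ l', a ∈ Δ') → rprod P l' = rprod P l → l.length ≤ l'.length

variable {P}

lemma IsMinWord.prefix {Δ' : Set ι} {l₀ : List ι} {a : ι} (h : IsMinWord P Δ' (l₀ ++ [a])) :
    IsMinWord P Δ' l₀ := by
  refine ⟨fun b hb => h.1 b (List.mem_append_left _ hb), fun l' hl' hprod => ?_⟩
  have := h.2 (l' ++ [a]) (by
    intro b hb
    rcases List.mem_append.mp hb with h' | h'
    · exact hl' b h'
    · exact h.1 b (List.mem_append_right _ h')) (by rw [rprod_snoc, rprod_snoc, hprod])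
  simp only [List.length_append, List.length_cons, List.length_nil] at this
  omega

lemma IsMinWord.mem_last {Δ' : Set ι} {l₀ : List ι} {a : ι} (h : IsMinWord P Δ' (l₀ ++ [a])) :
    a ∈ Δ' := h.1 a (by simp)

variable (P)

lemma exists_minWord {Δ' : Set ι} {g : P.Aut}
    (hg : g ∈ Subgroup.closure ((fun i : ι => RootPairing.Equiv.reflection P i) '' Δ')) :
    ∃ l : List ι, IsMinWord P Δ' l ∧ rprod P l = g := by
  classical
  have hex : ∃ n : ℕ, ∃ l : List ι, l.length = n ∧ (∀ a ∈ l, a ∈ Δ') ∧ rprod P l = g := by
    obtain ⟨l, hl, hprod⟩ := exists_word_of_mem_closure P hg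
    exact ⟨l.length, l, rfl, hl, hprod⟩
  obtain ⟨l, hlen, hl, hprod⟩ := Nat.find_spec hex
  refine ⟨l, ⟨hl, fun l' hl' hprod' => ?_⟩, hprod⟩
  rw [hlen]
  exact Nat.find_min' hex ⟨l', rfl, hl', hprod'.trans hprod⟩

end General

section Base

variable [CharZero R] [IsDomain R] [Finite ι] {P : RootPairing ι R M N} [P.IsCrystallographic]
  [P.IsReduced] (b : P.Base)

lemma height_neg (i : ι) : b.height (P.reflectionPerm i i) = -b.height i :=
  b.height_reflectionPerm_self i

lemma isPos_neg_iff (i : ι) : b.IsPos (P.reflectionPerm i i) ↔ ¬ b.IsPos i := by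
  rw [RootPairing.Base.isPos_iff, RootPairing.Base.isPos_iff, height_neg]
  have := b.height_ne_zero i
  omega

lemma reflectionPerm_neg (i : ι) :
    P.reflectionPerm (P.reflectionPerm i i) (P.reflectionPerm i i) = i := by
  apply P.root.injective
  rw [root_neg, root_neg, neg_neg]

/-- The simple reflections generate the Weyl group. -/
theorem closure_simple_eq_weylGroup :
    Subgroup.closure ((fun i : ι => RootPairing.Equiv.reflection P i) '' (b.support : Set ι)) =
      P.weylGroup := by
  apply le_antisymm
  · rw [Subgroup.closure_le]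
    rintro _ ⟨i, -, rfl⟩
    exact P.reflection_mem_weylGroup i
  · unfold RootPairing.weylGroup
    rw [Subgroup.closure_le]
    rintro _ ⟨i, rfl⟩
    refine b.induction_reflect i
      (p := fun i => RootPairing.Equiv.reflection P i ∈
        Subgroup.closure ((fun i : ι => RootPairing.Equiv.reflection P i) '' (b.support : Set ι)))
      ?_ ?_ ?_
    · intro i hi
      have h1 := reflection_smul_conj P (RootPairing.Equiv.reflection P i) i
      rw [reflection_aut_smul] at h1
      rw [h1]
      exact mul_mem (mul_mem hi hi) (inv_mem hi)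
    · intro i hi
      exact Subgroup.subset_closure ⟨i, hi, rfl⟩
    · intro i j hi hj
      have h1 := reflection_smul_conj P (RootPairing.Equiv.reflection P j) i
      rw [reflection_aut_smul] at h1
      rw [h1]
      have hj' : RootPairing.Equiv.reflection P j ∈
          Subgroup.closure ((fun i : ι => RootPairing.Equiv.reflection P i) ''
            (b.support : Set ι)) := Subgroup.subset_closure ⟨j, hj, rfl⟩
      exact mul_mem (mul_mem hj' hi) (inv_mem hj')

/-- The exchange condition. -/
theorem exch : ∀ (l₀ : List ι), (∀ x ∈ l₀, x ∈ b.support) → ∀ a ∈ b.support,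
    ¬ b.IsPos (rprod P l₀ • a) →
    ∃ l₁ : List ι, l₁.Sublist l₀ ∧ l₁.length + 1 = l₀.length ∧
      rprod P l₀ * RootPairing.Equiv.reflection P a = rprod P l₁ := by
  intro l₀
  induction l₀ with
  | nil =>
    intro _ a ha hneg
    exfalso
    apply hneg
    rw [rprod_nil, one_smul]
    exact RootPairing.Base.isPos_of_mem_support ha
  | cons c t ih =>
    intro hl a ha hneg
    have hc : c ∈ b.support := hl c List.mem_cons_self
    have ht : ∀ x ∈ t, x ∈ b.support := fun x hx => hl x (List.mem_cons_of_mem _ hx)
    by_cases hγ : b.IsPos (rprod P t • a)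
    · rw [rprod_cons, mul_smul, reflection_aut_smul] at hneg
      have hγc : rprod P t • a = c := by
        by_contra hne
        exact hneg (hγ.reflectionPerm hc hne)
      refine ⟨t, List.sublist_cons_self c t, rfl, ?_⟩
      have hconj := reflection_smul_conj P (rprod P t) a
      rw [hγc] at hconj
      rw [rprod_cons, hconj]
      simp only [mul_assoc, inv_mul_cancel_left, reflection_mul_self, mul_one]
    · obtain ⟨t₁, ht₁, hlen, heq⟩ := ih ht a ha hγ
      refine ⟨c :: t₁, ht₁.cons_cons c, by simp [hlen], ?_⟩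
      rw [rprod_cons, mul_assoc, heq, rprod_cons]

theorem IsMinWord.pos {l₀ : List ι} {a : ι}
    (h : IsMinWord P (b.support : Set ι) (l₀ ++ [a])) : b.IsPos (rprod P l₀ • a) := by
  by_contra hneg
  have hl₀ : ∀ x ∈ l₀, x ∈ b.support := fun x hx => h.1 x (List.mem_append_left _ hx)
  obtain ⟨l₁, hl₁, hlen, heq⟩ := exch b l₀ hl₀ a h.mem_last hneg
  have := h.2 l₁ (fun x hx => hl₀ x (hl₁.subset hx)) (by rw [rprod_snoc, heq])
  simp only [List.length_append, List.length_cons, List.length_nil] at this
  omega

/-- An element of the Weyl group preserving the positive roots is trivial. -/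
theorem eq_one_of_preserves_pos (g : P.Aut) (hg : g ∈ P.weylGroup)
    (hpos : ∀ i, b.IsPos i → b.IsPos (g • i)) : g = 1 := by
  rw [← closure_simple_eq_weylGroup b] at hg
  obtain ⟨l, hmin, rfl⟩ := exists_minWord P hg
  rcases List.eq_nil_or_concat l with rfl | ⟨l₀, a, rfl⟩
  · exact rprod_nil P
  · exfalso
    rw [List.concat_eq_append] at hmin hpos
    have h1 := IsMinWord.pos b hmin
    have h2 := hpos a (RootPairing.Base.isPos_of_mem_support hmin.mem_last)
    rw [rprod_snoc, mul_smul, reflection_aut_smul, smul_neg_index, isPos_neg_iff] at h2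
    exact h2 h1

section Transitive

variable (b' : P.Base)

lemma isPos_smul_of_forall_simple (g : P.Aut)
    (h : ∀ a ∈ b.support, b'.IsPos (g • a)) : ∀ i, b.IsPos i → b'.IsPos (g • i) := by
  intro i hi
  refine hi.induction_on_add (p := fun i => b'.IsPos (g • i)) h ?_
  intro i j k hk hi' hj
  have hk' : P.root (g • k) = P.root (g • i) + P.root (g • j) := by
    rw [root_smul, root_smul, root_smul, hk, smul_add]
  exact hi'.add (h j hj) hk'

lemma ncard_lt (g : P.Aut) {a : ι} (ha : a ∈ b.support) (hga : ¬ b'.IsPos (g • a)) :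
    {i | b.IsPos i ∧ ¬ b'.IsPos ((g * RootPairing.Equiv.reflection P a) • i)}.ncard <
      {i | b.IsPos i ∧ ¬ b'.IsPos (g • i)}.ncard := by
  have hinj : Function.Injective (P.reflectionPerm a) := (P.reflectionPerm a).injective
  rw [← Set.ncard_image_of_injective _ hinj]
  apply Set.ncard_lt_ncard _ (Set.toFinite _)
  rw [Set.ssubset_iff_of_subset]
  · refine ⟨a, ⟨RootPairing.Base.isPos_of_mem_support ha, hga⟩, ?_⟩
    rintro ⟨i, ⟨hi, -⟩, hia⟩
    have : i = P.reflectionPerm a a := by
      have h := congrArg (P.reflectionPerm a) hia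
      rwa [P.reflectionPerm_self] at h
    rw [this, isPos_neg_iff] at hi
    exact hi (RootPairing.Base.isPos_of_mem_support ha)
  · rintro _ ⟨i, ⟨hi, hgi⟩, rfl⟩
    rw [mul_smul, reflection_aut_smul] at hgi
    have hia : i ≠ a := by
      rintro rfl
      rw [smul_neg_index, isPos_neg_iff] at hgi
      exact hgi hga
    exact ⟨hi.reflectionPerm ha hia, hgi⟩

/-- Some element of the Weyl group maps the positive roots of `b` to positive roots of `b'`. -/
theorem exists_weyl_pos :
    ∃ g : P.Aut, g ∈ P.weylGroup ∧ ∀ i, b.IsPos i → b'.IsPos (g • i) := by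
  have key : ∀ n : ℕ, ∀ g : P.Aut, g ∈ P.weylGroup →
      {i | b.IsPos i ∧ ¬ b'.IsPos (g • i)}.ncard = n →
      ∃ g' : P.Aut, g' ∈ P.weylGroup ∧ ∀ i, b.IsPos i → b'.IsPos (g' • i) := by
    intro n
    induction n using Nat.strong_induction_on with
    | _ n ih =>
      intro g hg hn
      by_cases hall : ∀ a ∈ b.support, b'.IsPos (g • a)
      · exact ⟨g, hg, isPos_smul_of_forall_simple b b' g hall⟩
      · push Not at hall
        obtain ⟨a, ha, hga⟩ := hall
        have hlt := ncard_lt b b' g ha hga
        exact ih _ (hn ▸ hlt) _ (mul_mem hg (P.reflection_mem_weylGroup a)) rfl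
  exact key _ 1 (one_mem _) rfl

omit b' in
/-- Simple roots are the positive roots which are not sums of two positive roots. -/
lemma mem_support_iff (i : ι) :
    i ∈ b.support ↔ b.IsPos i ∧
      ∀ j k, b.IsPos j → b.IsPos k → P.root i ≠ P.root j + P.root k := by
  constructor
  · intro hi
    refine ⟨RootPairing.Base.isPos_of_mem_support hi, fun j k hj hk hsum => ?_⟩
    have h1 := b.height_add hsum
    rw [RootPairing.Base.height_one_of_mem_support hi] at h1
    rw [RootPairing.Base.isPos_iff] at hj hk
    omega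
  · rintro ⟨hi, hind⟩
    by_contra hns
    obtain ⟨j, hj, hj'⟩ := hi.exists_mem_support_pos_pairingIn
    rw [P.zero_lt_pairingIn_iff'] at hj'
    have hij : i ≠ j := fun h => hns (h ▸ hj)
    obtain ⟨k, hk⟩ := P.root_sub_root_mem_of_pairingIn_pos hj' hij
    have hkpos : b.IsPos k := hi.sub hj hk
    exact hind k j hkpos (RootPairing.Base.isPos_of_mem_support hj) (by rw [hk]; abel)

/-- The Weyl group acts simply transitively on bases. -/
theorem existsUnique_weyl_base :
    ∃! g : P.weylGroup,
      (fun i : ι => (g : P.Aut) • i) '' (b.support : Set ι) = (b'.support : Set ι) := by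
  obtain ⟨g, hg, hpos⟩ := exists_weyl_pos b b'
  have hpos' : ∀ j, b'.IsPos j → b.IsPos (g⁻¹ • j) := by
    intro j hj
    by_contra hcon
    rw [← isPos_neg_iff, ← smul_neg_index] at hcon
    have := hpos _ hcon
    rw [smul_inv_smul, isPos_neg_iff] at this
    exact this hj
  have himg : (fun i : ι => g • i) '' (b.support : Set ι) = (b'.support : Set ι) := by
    apply Set.Subset.antisymm
    · rintro _ ⟨i, hi, rfl⟩
      have hi' : i ∈ b.support := hi
      rw [mem_support_iff] at hi'
      show g • i ∈ b'.support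
      rw [mem_support_iff]
      refine ⟨hpos i hi'.1, fun j k hj hk hsum => ?_⟩
      apply hi'.2 (g⁻¹ • j) (g⁻¹ • k) (hpos' j hj) (hpos' k hk)
      have := congrArg (fun x => g⁻¹ • x) hsum
      simp only [smul_add, ← root_smul, inv_smul_smul] at this
      exact this
    · intro j hj
      have hj' : j ∈ b'.support := hj
      rw [mem_support_iff] at hj'
      refine ⟨g⁻¹ • j, ?_, smul_inv_smul g j⟩
      show g⁻¹ • j ∈ b.support
      rw [mem_support_iff]
      refine ⟨hpos' j hj'.1, fun i k hi hk hsum => ?_⟩
      apply hj'.2 (g • i) (g • k) (hpos i hi) (hpos k hk)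
      have := congrArg (fun x => g • x) hsum
      simp only [smul_add, ← root_smul, smul_inv_smul] at this
      exact this
  refine ⟨⟨g, hg⟩, himg, ?_⟩
  rintro ⟨g₂, hg₂⟩ himg₂
  have himg₂' : (fun i : ι => g₂ • i) '' (b.support : Set ι) = (b'.support : Set ι) := himg₂
  -- `g⁻¹ * g₂` preserves the simple roots of `b`
  have hsimple : ∀ a ∈ b.support, b.IsPos ((g⁻¹ * g₂) • a) := by
    intro a ha
    have h1 : g₂ • a ∈ (b'.support : Set ι) := himg₂' ▸ ⟨a, ha, rfl⟩
    rw [← himg] at h1
    obtain ⟨c, hc, hca⟩ := h1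
    have : (g⁻¹ * g₂) • a = c := by
      rw [mul_smul, ← hca]
      exact inv_smul_smul g c
    rw [this]
    exact RootPairing.Base.isPos_of_mem_support hc
  have h1 := eq_one_of_preserves_pos b (g⁻¹ * g₂) (mul_mem (inv_mem hg) hg₂)
    (isPos_smul_of_forall_simple b b (g⁻¹ * g₂) hsimple)
  apply Subtype.ext
  show g₂ = g
  exact (inv_mul_eq_one.mp h1).symm

end Transitive

end Base

end Groth.Agent.Lib.Helper2.BaseW
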